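import Cfsg.Agent.H412.OT.Defs
import Cfsg.Agent.H491.Sd.Norm
import Cfsg.Agent.KFacts.ChevTwoInst
import Cfsg.Agent.KFacts.RgdRigid
import Cfsg.Agent.KFacts.RgdChevCoord
import Cfsg.Agent.Nodes.Coroot

/-!
# S2539, 0.5 / 0.6 (helper3): the Weyl action on the concrete level

`hD : InList D`, `K` a finite field, everything inside `GL D.Idx K`, `N = D.monomialSubgroup K`, `T = D.diagonalSubgroup K`,
`perm = NPerm.permHom hD K : N →* Perm (Fin D.nroots)`.

* `exists_isType`; `exists_rep` : `perm n` is the action of an element `w` of the Weyl group on the vectors `vec D l r`;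
* `conj_xG` : `n x_r(a) n⁻¹ = x_{n r}(c a)`, `c ≠ 0` constant;
* `cpr_vec'` : `⟨vec s, (vec r)^∨⟩ = pr D r s`; `pr_perm` (W2) : `pr D (n r) (n s) = pr D r s`; `pr_self`;
* `chi_perm` (W3) : `chi (n t n⁻¹) (n s) = chi t s`;
* `mem_monomial_of_norm` (W1) : `N_G(T) = N` (`4 ≤ |K|`);
* `PsiZ D K Z` : the roots trivial on `Z`; `cent_form`, `cent_le_norm` (W5) : for `Z ≤ T` an element of `C_G(Z)` is
  `u k v`, `u, v ∈ G(Ψ)`, `k ∈ N` centralising `Z`; `C_G(Z)` normalises `G(Ψ)`.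
-/

set_option autoImplicit false
set_option linter.unusedSectionVars false

universe u

namespace Cfsg.Agent.H3.OT

open CoxeterSystem Cfsg Cfsg.Lie Cfsg.Lie.ChevalleyDatum Cfsg.Agent.ChevalleyStructure
  Cfsg.Agent.ChevalleyStructure.Elts Cfsg.Agent.ChevalleyStructure.NPerm Cfsg.Agent.ChevalleyStructure.CoxeterGeom
  Cfsg.Agent.Tits.Roots Cfsg.Agent.Nodes.Reps Cfsg.Agent.Nodes.BNOf Cfsg.Agent.Nodes.Bruhat Cfsg.Agent.Nodes.Coroot
  Cfsg.Agent.Nodes.RGDChev Cfsg.Agent.KFacts.RgdChevCoord Cfsg.Agent.H412.OT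

variable {D : ChevalleyDatum} {K : Type u} [Field K]

theorem exists_isType (hD : InList D) : ∃ (l : ℕ) (M : CoxeterMatrix (Fin l)), IsType D l M := by
  simp only [InList, List.mem_cons, List.not_mem_nil, or_false] at hD
  rcases hD with rfl | rfl | rfl | rfl | rfl | rfl | rfl
  · exact ⟨2, CoxeterMatrix.G₂, by simp [IsType, typeList]⟩
  · exact ⟨2, CoxeterMatrix.B 2, by simp [IsType, typeList]⟩
  · exact ⟨4, coxeterD4, by simp [IsType, typeList]⟩
  · exact ⟨4, CoxeterMatrix.F₄, by simp [IsType, typeList]⟩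
  · exact ⟨6, CoxeterMatrix.E₆, by simp [IsType, typeList]⟩
  · exact ⟨7, CoxeterMatrix.E₇, by simp [IsType, typeList]⟩
  · exact ⟨8, CoxeterMatrix.E₈, by simp [IsType, typeList]⟩

/-- induction on the elements of `N` -/
theorem mono_induction (hD : InList D) {P : ↥(D.monomialSubgroup K) → Prop}
    (h1 : ∀ i (hi : i < D.rank), P ⟨nG hD (D.simple i) 1, nG_simple_mem hD K hi⟩)
    (h2 : ∀ t (ht : t ∈ D.diagonalSubgroup K), P ⟨t, diagonal_le_monomial D K ht⟩)
    (hm : ∀ m n, P m → P n → P (m * n)) (hi : ∀ n, P n → P n⁻¹) (n : ↥(D.monomialSubgroup K)) : P n := by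
  have h4 : ∀ n ∈ Subgroup.closure ({g : GL D.Idx K | ∃ i < D.rank, g = nG hD (D.simple i) 1} ∪
      (D.diagonalSubgroup K : Set (GL D.Idx K))), ∃ h : n ∈ D.monomialSubgroup K, P ⟨n, h⟩ := by
    intro n h3
    induction h3 using Subgroup.closure_induction with
    | mem x hx =>
      rcases hx with ⟨i, hi, rfl⟩ | hx
      · exact ⟨_, h1 i hi⟩
      · exact ⟨_, h2 x hx⟩
    | one => exact ⟨one_mem _, h2 1 (one_mem _)⟩
    | mul x y _ _ hx hy =>
      obtain ⟨hx, hx'⟩ := hx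
      obtain ⟨hy, hy'⟩ := hy
      exact ⟨mul_mem hx hy, hm _ _ hx' hy'⟩
    | inv x _ hx =>
      obtain ⟨hx, hx'⟩ := hx
      exact ⟨inv_mem hx, hi _ hx'⟩
  exact (h4 n (by
    rw [Subgroup.closure_union, Subgroup.closure_eq, ← monomial_eq hD K]
    exact n.2)).2

/-- `N` acts on the roots through the Weyl group -/
theorem exists_rep {l : ℕ} {M : CoxeterMatrix (Fin l)} (hp : IsType D l M) {W : Type*} [Group W]
    (cs : CoxeterSystem M W) (n : ↥(D.monomialSubgroup K)) :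
    ∃ w : W, ∀ r : Fin D.nroots, vec D l ((permHom hp.inList K n r : Fin D.nroots) : ℕ) =
      rep cs hp.isCartan w (vec D l r) := by
  refine mono_induction hp.inList (P := fun n => ∃ w : W, ∀ r : Fin D.nroots,
    vec D l ((permHom hp.inList K n r : Fin D.nroots) : ℕ) = rep cs hp.isCartan w (vec D l r)) ?_ ?_ ?_ ?_ n
  · intro i hi
    have hi' : i < l := by rw [← hp.rank_eq]; exact hi
    refine ⟨cs.simple ⟨i, hi'⟩, fun r => ?_⟩
    rw [permHom_nG hp.inList hi _ (coe_nG _ _ _), rep_vec hp cs ⟨i, hi'⟩ r.2]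
  · intro t ht
    refine ⟨1, fun r => ?_⟩
    rw [permHom_diagonal hp.inList ht, map_one, Module.End.one_apply]
    rfl
  · rintro m n ⟨w, hw⟩ ⟨w', hw'⟩
    refine ⟨w * w', fun r => ?_⟩
    rw [map_mul, Equiv.Perm.mul_apply, hw, hw', rep_mul_apply]
  · rintro n ⟨w, hw⟩
    refine ⟨w⁻¹, fun r => ?_⟩
    obtain ⟨s, hs⟩ : ∃ s, s = (permHom hp.inList K n)⁻¹ r := ⟨_, rfl⟩
    have h1 : permHom hp.inList K n s = r := by rw [hs]; exact Equiv.apply_symm_apply _ r
    rw [map_inv, ← hs, ← h1, hw, rep_inv_apply]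

/-- `⟨vec s, (vec r)^∨⟩ = pr D r s` -/
theorem cpr_vec' {l : ℕ} {M : CoxeterMatrix (Fin l)} (hp : IsType D l M) {W : Type*} [Group W]
    (cs : CoxeterSystem M W) {r s : ℕ} (hr : r < D.nroots) (hs : s < D.nroots) :
    cpr cs hp.isCartan (vec D l s) (vec D l r) = pr D r s :=
  Cfsg.Agent.KFacts.ChevTwoInst.cpr_vec hp cs hr s hs

/-- **(W2)** `N` preserves the Cartan numbers. -/
theorem pr_perm (hD : InList D) (n : ↥(D.monomialSubgroup K)) (r s : Fin D.nroots) :
    pr D (permHom hD K n r) (permHom hD K n s) = pr D r s := by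
  obtain ⟨l, M, hp⟩ := exists_isType hD
  let cs : CoxeterSystem M M.Group := M.toCoxeterSystem
  have hW : Finite M.Group := finite_W hp cs
  obtain ⟨w, hw⟩ := exists_rep hp cs n
  rw [← cpr_vec' hp cs (Fin.is_lt _) (Fin.is_lt _), ← cpr_vec' hp cs r.2 s.2, hw, hw,
    cpr_rep cs _ w _ (isRoot_vec hp cs r.2)]

theorem pr_self (hD : InList D) {r : ℕ} (hr : r < D.nroots) : pr D r r = 2 := by
  obtain ⟨l, M, hp⟩ := exists_isType hD
  let cs : CoxeterSystem M M.Group := M.toCoxeterSystem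
  have hW : Finite M.Group := finite_W hp cs
  rw [← cpr_vec' hp cs hr hr, cpr_self cs _ (isRoot_vec hp cs hr)]

/-- **(W0)** `n x_r(a) n⁻¹ = x_{n r}(c a)`. -/
theorem conj_xG (hD : InList D) (n : ↥(D.monomialSubgroup K)) (r : Fin D.nroots) :
    ∃ c : K, c ≠ 0 ∧ ∀ a, (n : GL D.Idx K) * xG hD r a * (n : GL D.Idx K)⁻¹ = xG hD (permHom hD K n r) (c * a) := by
  revert r
  refine mono_induction hD (P := fun n => ∀ r : Fin D.nroots, ∃ c : K, c ≠ 0 ∧ ∀ a,
    (n : GL D.Idx K) * xG hD r a * (n : GL D.Idx K)⁻¹ = xG hD (permHom hD K n r) (c * a)) ?_ ?_ ?_ ?_ n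
  · intro i hi r
    obtain ⟨η, hη, h⟩ := Cfsg.Agent.S1031.result (F := K) D hD i r hi r.2
    refine ⟨(η : K), ?_, fun a => ?_⟩
    · rcases hη with rfl | rfl <;> simp
    · rw [permHom_nG hD hi _ (coe_nG _ _ _), mul_inv_eq_iff_eq_mul]
      apply Units.ext
      rw [Units.val_mul, Units.val_mul, coe_xG, coe_xG]
      change (nG hD (D.simple i) (1 : K) : Matrix D.Idx D.Idx K) * _ = _ *
        (nG hD (D.simple i) (1 : K) : Matrix D.Idx D.Idx K)
      rw [coe_nG]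
      exact h a
  · intro t ht r
    refine ⟨chi D K t r, chi_ne_zero hD ht r, fun a => ?_⟩
    rw [permHom_diagonal hD ht]
    exact tor_conj_xG hD ht r.2 a
  · intro m n hm hn r
    obtain ⟨c, hc, h⟩ := hn r
    obtain ⟨c', hc', h'⟩ := hm (permHom hD K n r)
    refine ⟨c' * c, mul_ne_zero hc' hc, fun a => ?_⟩
    rw [Subgroup.coe_mul, map_mul, Equiv.Perm.mul_apply, mul_assoc c', ← h', ← h]
    group
  · intro n hn r
    obtain ⟨s, hs⟩ : ∃ s, s = (permHom hD K n)⁻¹ r := ⟨_, rfl⟩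
    have h1 : permHom hD K n s = r := by rw [hs]; exact Equiv.apply_symm_apply _ r
    obtain ⟨c, hc, h⟩ := hn s
    refine ⟨c⁻¹, inv_ne_zero hc, fun a => ?_⟩
    rw [map_inv, ← hs, ← h1]
    have h2 := h (c⁻¹ * a)
    rw [mul_inv_cancel_left₀ hc] at h2
    rw [← h2, Subgroup.coe_inv]
    group

theorem conj_mem_tor (hD : InList D) (n : ↥(D.monomialSubgroup K)) {t : GL D.Idx K} (ht : t ∈ D.diagonalSubgroup K) :
    (n : GL D.Idx K) * t * (n : GL D.Idx K)⁻¹ ∈ D.diagonalSubgroup K := by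
  obtain ⟨l, M, hp⟩ := exists_isType hD
  exact (Subgroup.mem_normalizer_iff.1 (monomial_le (K := K) hp n.2) t).1 ht

/-- **(W3)** `chi (n t n⁻¹) (n s) = chi t s`. -/
theorem chi_perm (hD : InList D) (n : ↥(D.monomialSubgroup K)) {t : GL D.Idx K} (ht : t ∈ D.diagonalSubgroup K)
    (s : Fin D.nroots) :
    chi D K ((n : GL D.Idx K) * t * (n : GL D.Idx K)⁻¹) (permHom hD K n s) = chi D K t s := by
  obtain ⟨c, hc, h⟩ := conj_xG hD n s
  have h1 := tor_conj_xG hD (conj_mem_tor hD n ht) (permHom hD K n s).2 (c * 1)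
  rw [← h] at h1
  have h2 : (n : GL D.Idx K) * t * (n : GL D.Idx K)⁻¹ * ((n : GL D.Idx K) * xG hD s 1 * (n : GL D.Idx K)⁻¹) *
      ((n : GL D.Idx K) * t * (n : GL D.Idx K)⁻¹)⁻¹ =
      (n : GL D.Idx K) * (t * xG hD s 1 * t⁻¹) * (n : GL D.Idx K)⁻¹ := by group
  rw [h2, tor_conj_xG hD ht s.2, h] at h1
  have h3 := xG_injective hD (permHom hD K n s).2 h1
  rw [mul_one, mul_one, mul_comm c] at h3
  exact (mul_right_cancel₀ hc h3).symm

/-- The root groups: the ones of the vectors. -/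
theorem XX_vec {l : ℕ} {M : CoxeterMatrix (Fin l)} (hp : IsType D l M) {r : ℕ} (hr : r < D.nroots) {g : ↥(D.group K)} :
    g ∈ (XV D l K (vec D l r)).subgroupOf (D.group K) ↔ (g : GL D.Idx K) ∈ D.rootSubgroup K r := by
  rw [Subgroup.mem_subgroupOf, XV_vec hp K hr]

/-- `4 ≤ |K|` : an element of `K` with `c ≠ 0`, `c ^ 2 ≠ 1` -/
theorem exists_sq_ne_one [Finite K] (h4 : 4 ≤ Nat.card K) : ∃ c : K, c ≠ 0 ∧ c ^ 2 ≠ 1 := by
  classical
  by_contra hcon
  push Not at hcon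
  have := Fintype.ofFinite K
  have h1 : (Finset.univ : Finset K) ⊆ {0, 1, -1} := by
    intro c _
    by_cases h0 : c = 0
    · simp [h0]
    · have h2 : c = 1 ∨ c = -1 := mul_self_eq_one_iff.1 (by rw [← pow_two]; exact hcon c h0)
      rcases h2 with h2 | h2 <;> simp [h2]
  have h2 := (Finset.card_le_card h1).trans Finset.card_le_three
  rw [Finset.card_univ, ← Nat.card_eq_fintype_card] at h2
  omega

/-- The elements over `w` lie in `N`. -/
theorem rp_mem_monomial [Finite K] {l : ℕ} {M : CoxeterMatrix (Fin l)} (hp : IsType D l M) {W : Type*} [Group W]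
    (cs : CoxeterSystem M W) (p : ℕ) [Fact p.Prime] [CharP K p] {w : W} {g : ↥(D.group K)}
    (hg : Rp cs (rgd (K := K) hp cs p).nsys w g) : (g : GL D.Idx K) ∈ D.monomialSubgroup K := by
  obtain ⟨k, hk, hkw⟩ := exists_rp_closure (cs := cs) (hN := (rgd (K := K) hp cs p).nsys) w
  have h1 := hkw.unique hg
  have h2 : (k : GL D.Idx K) ∈ D.monomialSubgroup K := by
    have h3 : Subgroup.closure (Set.range fun i => (⟨nn hp K i, nn_mem_group hp i⟩ : ↥(D.group K))) ≤
        (D.monomialSubgroup K).subgroupOf (D.group K) := by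
      rw [Subgroup.closure_le]
      rintro _ ⟨i, rfl⟩
      exact nn_mem_monomial hp i
    exact h3 hk
  have h3 : (g : GL D.Idx K) = (k : GL D.Idx K) * ((k⁻¹ * g : ↥(D.group K)) : GL D.Idx K) := by
    rw [Subgroup.coe_mul, Subgroup.coe_inv]
    group
  rw [h3]
  exact mul_mem h2 (diagonal_le_monomial D K h1)

/-- **(W1)** `N_G(T) = N`. -/
theorem mem_monomial_of_norm [Finite K] (hD : InList D) (h4 : 4 ≤ Nat.card K) {g : GL D.Idx K} (hg : g ∈ D.group K)
    (hn : g ∈ Subgroup.normalizer (D.diagonalSubgroup K : Set (GL D.Idx K))) : g ∈ D.monomialSubgroup K := by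
  obtain ⟨l, M, hp⟩ := exists_isType hD
  let cs : CoxeterSystem M M.Group := M.toCoxeterSystem
  have hW : Finite M.Group := finite_W hp cs
  obtain ⟨p, hcp⟩ := CharP.exists K
  have hpf : Fact p.Prime := ⟨CharP.char_is_prime K p⟩
  have hno : Cfsg.Agent.H491.Sd.NoFix cs hp.isCartan ((D.diagonalSubgroup K).subgroupOf (D.group K))
      (fun x => (XV D l K x).subgroupOf (D.group K)) := by
    intro x hx u hu hc
    obtain ⟨r, hr, rfl⟩ := (isRoot_iff hp cs x).1 hx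
    rw [XX_vec hp hr, mem_rootSubgroup_iff hD] at hu
    obtain ⟨a, ha⟩ := hu
    obtain ⟨c, hc0, hc2⟩ := exists_sq_ne_one h4
    have h1 := hc ⟨hG hD r c, hG_mem_group hD r c⟩ (hG_mem hD hr hc0)
    have h2 : hG hD r c * xG hD r a * (hG hD r c)⁻¹ = xG hD r a := by
      rw [mul_inv_eq_iff_eq_mul]
      have h3 := congrArg Subtype.val h1
      rw [Subgroup.coe_mul, Subgroup.coe_mul] at h3
      simpa only [ha] using h3
    rw [hG_conj_xG hD hr hr hc0, pr_self hD hr] at h2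
    have h3 := xG_injective hD hr h2
    have h5 : (c ^ (2 : ℤ) - 1) * a = 0 := by rw [sub_mul, h3, one_mul, sub_self]
    have h6 : a = 0 := by
      rcases mul_eq_zero.1 h5 with h7 | h7
      · exact absurd (by exact_mod_cast sub_eq_zero.1 h7) hc2
      · exact h7
    apply Subtype.ext
    rw [ha, h6]
    exact xG_zero hD r
  have hG := Cfsg.Agent.KFacts.RgdRigid.GG_eq_top (T := (D.diagonalSubgroup K).subgroupOf (D.group K))
    (G1_eq_top hp cs (K := K))
  obtain ⟨w, hw⟩ := Cfsg.Agent.H491.Sd.exists_rp_of_norm (rgd (K := K) hp cs p) hG hno (g := ⟨g, hg⟩) (by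
    rw [Subgroup.mem_normalizer_iff] at hn ⊢
    exact fun x => hn x)
  exact rp_mem_monomial hp cs p hw

/-! ### centralisers of subsets of the torus -/

/-- The roots trivial on `Z`. -/
def PsiZ (D : ChevalleyDatum) (K : Type u) [Field K] (Z : Subgroup (GL D.Idx K)) : Set ℕ :=
  {r | r < D.nroots ∧ ∀ z ∈ Z, chi D K z r = 1}

theorem root_le_GS {S : Set ℕ} {r : ℕ} (hr : r ∈ S) : D.rootSubgroup K r ≤ GS D K S :=
  le_sup_of_le_right (le_iSup₂ (f := fun r (_ : r ∈ S) => D.rootSubgroup K r) r hr)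

theorem tor_le_GS (S : Set ℕ) : D.diagonalSubgroup K ≤ GS D K S := le_sup_left

/-- an element of `N` centralising `Z` permutes the roots trivial on `Z` -/
theorem perm_mem_PsiZ (hD : InList D) {Z : Subgroup (GL D.Idx K)} (hZ : Z ≤ D.diagonalSubgroup K)
    (n : ↥(D.monomialSubgroup K)) (hn : (n : GL D.Idx K) ∈ Subgroup.centralizer (Z : Set (GL D.Idx K)))
    {r : Fin D.nroots} (hr : (r : ℕ) ∈ PsiZ D K Z) : ((permHom hD K n r : Fin D.nroots) : ℕ) ∈ PsiZ D K Z := by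
  refine ⟨Fin.is_lt _, fun z hz => ?_⟩
  have h1 : (n : GL D.Idx K) * z * (n : GL D.Idx K)⁻¹ = z := by
    rw [mul_inv_eq_iff_eq_mul]
    exact (Subgroup.mem_centralizer_iff.1 hn z hz).symm
  have h2 := chi_perm hD n (hZ hz) r
  rw [h1] at h2
  rw [h2]
  exact hr.2 z hz

theorem mono_le_norm_GS (hD : InList D) {Z : Subgroup (GL D.Idx K)} (hZ : Z ≤ D.diagonalSubgroup K)
    (n : ↥(D.monomialSubgroup K)) (hn : (n : GL D.Idx K) ∈ Subgroup.centralizer (Z : Set (GL D.Idx K))) :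
    (n : GL D.Idx K) ∈ Subgroup.normalizer (GS D K (PsiZ D K Z) : Set (GL D.Idx K)) := by
  have key : ∀ n : ↥(D.monomialSubgroup K), (n : GL D.Idx K) ∈ Subgroup.centralizer (Z : Set (GL D.Idx K)) →
      ∀ x ∈ GS D K (PsiZ D K Z), (n : GL D.Idx K) * x * (n : GL D.Idx K)⁻¹ ∈ GS D K (PsiZ D K Z) := by
    intro n hn
    have h1 : GS D K (PsiZ D K Z) ≤ (GS D K (PsiZ D K Z)).comap (MulAut.conj (n : GL D.Idx K)).toMonoidHom := by
      refine sup_le ?_ (iSup₂_le fun r hr => ?_)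
      · intro t ht
        exact tor_le_GS _ (conj_mem_tor hD n ht)
      · intro x hx
        have h2 := conj_permHom hD n ⟨r, hr.1⟩
        have h3 : (n : GL D.Idx K) * x * (n : GL D.Idx K)⁻¹ ∈
            (D.rootSubgroup K r).map (MulAut.conj (n : GL D.Idx K)).toMonoidHom := ⟨x, hx, rfl⟩
        rw [h2] at h3
        exact root_le_GS (perm_mem_PsiZ hD hZ n hn (r := ⟨r, hr.1⟩) hr) h3
    exact fun x hx => h1 hx
  rw [Subgroup.mem_normalizer_iff]
  intro x
  refine ⟨fun hx => key n hn x hx, fun hx => ?_⟩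
  have h1 := key n⁻¹ (by rw [Subgroup.coe_inv]; exact inv_mem hn) _ hx
  rw [Subgroup.coe_inv] at h1
  have h2 : (n : GL D.Idx K)⁻¹ * ((n : GL D.Idx K) * x * (n : GL D.Idx K)⁻¹) * ((n : GL D.Idx K)⁻¹)⁻¹ = x := by group
  rwa [h2] at h1

/-- **0.6** : the elements of `C_G(Z)`, `Z ≤ T`. -/
theorem cent_form [Finite K] (hD : InList D) {Z : Subgroup (GL D.Idx K)} (hZ : Z ≤ D.diagonalSubgroup K)
    {g : GL D.Idx K} (hg : g ∈ D.group K) (hc : g ∈ Subgroup.centralizer (Z : Set (GL D.Idx K))) :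
    ∃ u ∈ GS D K (PsiZ D K Z), ∃ k ∈ D.monomialSubgroup K, k ∈ Subgroup.centralizer (Z : Set (GL D.Idx K)) ∧
      ∃ v ∈ GS D K (PsiZ D K Z), g = u * k * v := by
  obtain ⟨l, M, hp⟩ := exists_isType hD
  let cs : CoxeterSystem M M.Group := M.toCoxeterSystem
  have hW : Finite M.Group := finite_W hp cs
  obtain ⟨p, hcp⟩ := CharP.exists K
  have hpf : Fact p.Prime := ⟨CharP.char_is_prime K p⟩
  have hG := Cfsg.Agent.KFacts.RgdRigid.GG_eq_top (T := (D.diagonalSubgroup K).subgroupOf (D.group K))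
    (G1_eq_top hp cs (K := K))
  have hZG : ∀ z ∈ Z, z ∈ D.group K := fun z hz => diagonal_le_group hD K (hZ hz)
  obtain ⟨S, hS⟩ : ∃ S : Set ↥(D.group K), S = {z : ↥(D.group K) | (z : GL D.Idx K) ∈ Z} := ⟨_, rfl⟩
  have hST : S ⊆ (((D.diagonalSubgroup K).subgroupOf (D.group K) : Subgroup ↥(D.group K)) : Set ↥(D.group K)) := by
    intro z hz
    rw [hS] at hz
    exact hZ hz
  have hcS : ∀ y : ↥(D.group K), y ∈ Subgroup.centralizer S →
      (y : GL D.Idx K) ∈ Subgroup.centralizer (Z : Set (GL D.Idx K)) := by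
    intro y hy
    rw [Subgroup.mem_centralizer_iff] at hy ⊢
    intro z hz
    exact congrArg Subtype.val (hy ⟨z, hZG z hz⟩ (by rw [hS]; exact hz))
  obtain ⟨u, hu, w, k, hk, hkc, v, hv, e⟩ := Cfsg.Agent.Nodes.NormalForm.mem_centralizer (rgd (K := K) hp cs p) hST
    (g := ⟨g, hg⟩) (by rw [hG]; exact Subgroup.mem_top _) (by
      rw [Subgroup.mem_centralizer_iff] at hc ⊢
      intro z hz
      rw [hS] at hz
      exact Subtype.ext (hc z hz))
  have hle : RGD.Sup (fun x => (XV D l K x).subgroupOf (D.group K) ⊓ Subgroup.centralizer S)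
      (RGD.Pos cs hp.isCartan) ≤ (GS D K (PsiZ D K Z)).subgroupOf (D.group K) := by
    refine RGD.Sup_le ?_
    rintro x ⟨hx, -⟩ y hy
    obtain ⟨hy1, hy2⟩ := Subgroup.mem_inf.1 hy
    obtain ⟨r, hr, rfl⟩ := (isRoot_iff hp cs x).1 hx
    rw [XX_vec hp hr] at hy1
    rw [Subgroup.mem_subgroupOf]
    by_cases hy0 : (y : GL D.Idx K) = 1
    · rw [hy0]; exact one_mem _
    · refine root_le_GS (S := PsiZ D K Z) (r := r) ⟨hr, fun z hz => ?_⟩ hy1
      obtain ⟨a, ha⟩ := (mem_rootSubgroup_iff hD r _).1 hy1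
      have h1 := Subgroup.mem_centralizer_iff.1 (hcS y hy2) z hz
      have h2 : z * xG hD r a * z⁻¹ = xG hD r a := by
        rw [mul_inv_eq_iff_eq_mul, ← ha]
        exact h1
      rw [tor_conj_xG hD (hZ hz) hr] at h2
      have h3 := xG_injective hD hr h2
      have h4 : a ≠ 0 := by
        rintro rfl
        apply hy0
        rw [ha]
        exact xG_zero hD r
      exact mul_right_cancel₀ h4 (by rw [h3, one_mul])
  refine ⟨u, hle hu, k, rp_mem_monomial hp cs p hk, hcS k hkc, v, hle hv, ?_⟩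
  exact congrArg Subtype.val e

/-- **(W5)** `C_G(Z)` normalises `G(Ψ)`. -/
theorem cent_le_norm [Finite K] (hD : InList D) {Z : Subgroup (GL D.Idx K)} (hZ : Z ≤ D.diagonalSubgroup K) :
    D.group K ⊓ Subgroup.centralizer (Z : Set (GL D.Idx K)) ≤
      Subgroup.normalizer (GS D K (PsiZ D K Z) : Set (GL D.Idx K)) := by
  rintro g ⟨hg, hc⟩
  obtain ⟨u, hu, k, hk, hkc, v, hv, rfl⟩ := cent_form hD hZ hg hc
  exact mul_mem (mul_mem (Subgroup.le_normalizer hu) (mono_le_norm_GS hD hZ ⟨k, hk⟩ hkc)) (Subgroup.le_normalizer hv)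

end Cfsg.Agent.H3.OT
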